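import Mathlib
/-!
Numerical polynomials in several variables.
-/

set_option autoImplicit false

open Polynomial

namespace Groth.Agent.HilbLib

theorem aeval_line_of_isHomogeneous {σ : Type*} (e : σ → ℚ) {H : MvPolynomial σ ℚ} {j : ℕ} (hH : H.IsHomogeneous j) :
    MvPolynomial.aeval (fun i => (C (e i) * X : ℚ[X])) H = C (MvPolynomial.eval e H) * X ^ j := by
  rw [MvPolynomial.aeval_def, MvPolynomial.eval₂_eq, MvPolynomial.eval_eq, map_sum, Finset.sum_mul]
  refine Finset.sum_congr rfl fun s hs => ?_
  have hdeg : ∑ i ∈ s.support, s i = j := by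
    have h := hH (MvPolynomial.mem_support_iff.1 hs)
    simpa [Finsupp.weight_apply, Finsupp.sum] using h
  simp only [mul_pow, Finset.prod_mul_distrib, Finset.prod_pow_eq_pow_sum, hdeg, map_mul, map_prod, map_pow,
    Polynomial.algebraMap_eq]
  ring

/-- A polynomial of degree at most `d` on every line through the origin has total degree at most `d`. -/
theorem totalDegree_le_of_lines {r d : ℕ} (P : MvPolynomial (Fin r) ℚ)
    (h : ∀ e : Fin r → ℕ, ∃ Q : ℚ[X], Q.degree < ((d + 1 : ℕ) : WithBot ℕ) ∧
      ∀ t : ℕ, MvPolynomial.eval (fun i => ((t * e i : ℕ) : ℚ)) P = Q.eval (t : ℚ)) :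
    P.totalDegree ≤ d := by
  by_contra hd
  set D := P.totalDegree with hDdef
  have hzero : MvPolynomial.homogeneousComponent D P = 0 := by
    refine MvPolynomial.funext_set (fun _ => Set.range (Nat.cast : ℕ → ℚ))
      (fun _ => Set.infinite_range_of_injective Nat.cast_injective) fun x hx => ?_
    choose e he using fun i => hx i (Set.mem_univ i)
    obtain ⟨Q, hQ, hQe⟩ := h e
    set R : ℚ[X] := MvPolynomial.aeval (fun i => (C (x i) * X : ℚ[X])) P
    have hR : R = Q := by
      refine Polynomial.eq_of_infinite_eval_eq _ _ ((Set.infinite_range_of_injective Nat.cast_injective).mono ?_)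
      rintro _ ⟨t, rfl⟩
      show R.eval (t : ℚ) = Q.eval (t : ℚ)
      rw [← hQe t]
      show (Polynomial.evalRingHom (t : ℚ)) (MvPolynomial.aeval _ P) = _
      rw [MvPolynomial.aeval_def, MvPolynomial.eval₂_comp_left]
      rw [show (Polynomial.evalRingHom (t : ℚ)).comp (algebraMap ℚ ℚ[X]) = RingHom.id ℚ from RingHom.ext fun a => by simp]
      rw [MvPolynomial.eval, MvPolynomial.coe_eval₂Hom]
      congr 1
      funext i
      simp [← he, mul_comm]
    have hc : R.coeff D = MvPolynomial.eval x (MvPolynomial.homogeneousComponent D P) := by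
      conv_lhs => rw [show R = MvPolynomial.aeval (fun i => (C (x i) * X : ℚ[X]))
        (∑ j ∈ Finset.range (D + 1), MvPolynomial.homogeneousComponent j P) by
        rw [MvPolynomial.sum_homogeneousComponent]]
      rw [map_sum, finsetSum_coeff, Finset.sum_eq_single D]
      · rw [aeval_line_of_isHomogeneous x (MvPolynomial.homogeneousComponent_isHomogeneous D P), coeff_C_mul_X_pow, if_pos rfl]
      · intro j _ hj
        rw [aeval_line_of_isHomogeneous x (MvPolynomial.homogeneousComponent_isHomogeneous j P), coeff_C_mul_X_pow, if_neg hj.symm]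
      · intro hD; exact absurd (Finset.self_mem_range_succ D) hD
    rw [map_zero, ← hc, hR, (degree_lt_iff_coeff_zero Q (d + 1)).1 hQ D (by omega)]
  have hne : P.support.Nonempty := by
    rcases P.support.eq_empty_or_nonempty with h0 | h0
    · rw [MvPolynomial.support_eq_empty] at h0
      rw [h0, MvPolynomial.totalDegree_zero] at hDdef
      omega
    · exact h0
  obtain ⟨s, hs, hsD⟩ := Finset.exists_mem_eq_sup _ hne fun s => s.sum fun _ n => n
  have := congrArg (MvPolynomial.coeff s) hzero
  rw [MvPolynomial.coeff_homogeneousComponent, MvPolynomial.coeff_zero, if_pos ?_] at this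
  · exact MvPolynomial.mem_support_iff.1 hs this
  · rw [hDdef, MvPolynomial.totalDegree, hsD]
    rfl

/-- Interpolation in the last variable. -/
theorem exists_mvPoly_succ {r N : ℕ} (f : (Fin (r + 1) → ℕ) → ℚ)
    (hlast : ∀ m : Fin r → ℕ, ∃ Q : ℚ[X], Q.degree < (N : WithBot ℕ) ∧ ∀ t : ℕ, f (Fin.snoc m t) = Q.eval (t : ℚ))
    (hfix : ∀ i : ℕ, ∃ P : MvPolynomial (Fin r) ℚ, ∀ m, f (Fin.snoc m i) = MvPolynomial.eval (fun j => (m j : ℚ)) P) :
    ∃ P : MvPolynomial (Fin (r + 1)) ℚ, ∀ n, f n = MvPolynomial.eval (fun j => (n j : ℚ)) P := by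
  choose P hP using hfix
  refine ⟨∑ i ∈ Finset.range N, MvPolynomial.rename Fin.castSucc (P i) *
    Polynomial.aeval (MvPolynomial.X (Fin.last r)) (Lagrange.basis (Finset.range N) (fun i : ℕ => (i : ℚ)) i), fun n => ?_⟩
  obtain ⟨Q, hQ, hQe⟩ := hlast (fun j => n j.castSucc)
  have e : Q = Lagrange.interpolate (Finset.range N) (fun i : ℕ => (i : ℚ)) (fun i => Q.eval (i : ℚ)) :=
    Lagrange.eq_interpolate (Nat.cast_injective.injOn) (by rwa [Finset.card_range])
  have hn : Fin.snoc (fun j => n j.castSucc) (n (Fin.last r)) = n := Fin.snoc_init_self n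
  conv_lhs => rw [← hn, hQe, e, Lagrange.interpolate_apply, eval_finsetSum]
  rw [map_sum]
  refine Finset.sum_congr rfl fun i _ => ?_
  rw [eval_mul, eval_C, map_mul, MvPolynomial.eval_rename, ← hQe i, hP i]
  congr 1
  rw [← MvPolynomial.aeval_eq_eval, ← Polynomial.aeval_algHom_apply, MvPolynomial.aeval_X, Polynomial.coe_aeval_eq_eval]

end Groth.Agent.HilbLib
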