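import Groth.Agent.HilbLib.Basic
import Groth.Agent.HilbLib.MvPoly
import Groth.Prelude.Def_Curv2
import Groth.Prelude.Def_FGA
/-!
Snapper's theorem in several variables.
-/

set_option autoImplicit false
set_option backward.isDefEq.respectTransparency false
set_option linter.style.haveILetI false

universe u

open CategoryTheory CategoryTheory.Limits AlgebraicGeometry Polynomial TopologicalSpace
open Groth.Agent.PullbackMod Groth.Agent.DCohLib Groth.Agent.DevLib Groth.Agent.QCohLib

noncomputable section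

namespace Groth.Agent.HilbLib

variable {X : Scheme.{u}}

theorem tensorPows_props [IsLocallyNoetherian X] : ∀ (r : ℕ) (L : Fin r → X.Modules), (∀ i, PicF.IsInvertible (L i)) →
    ∀ (n : Fin r → ℕ) (M : X.Modules), Coh.IsCoh M →
      Coh.IsCoh (Curv2.tensorPows M r L n) ∧ CohB1.support (Curv2.tensorPows M r L n) = CohB1.support M := by
  intro r
  induction r with
  | zero => exact fun L _ n M hM => ⟨hM, rfl⟩
  | succ r ih =>
    intro L hL n M hM
    obtain ⟨h1, h2⟩ := ih (fun i => L i.castSucc) (fun i => hL _) (fun i => n i.castSucc) M hM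
    exact ⟨isCoh_twist (hL _) h1 _, (support_tensor (AmpleLib.isInvertible_tensorPow (hL _) _) _).trans h2⟩

theorem tensorPows_invertible : ∀ (r : ℕ) (L : Fin r → X.Modules), (∀ i, PicF.IsInvertible (L i)) →
    ∀ (n : Fin r → ℕ) (M : X.Modules), PicF.IsInvertible M → PicF.IsInvertible (Curv2.tensorPows M r L n) := by
  intro r
  induction r with
  | zero => exact fun L _ n M hM => hM
  | succ r ih =>
    exact fun L hL n M hM => AmpleLib.isInvertible_tensor (ih _ (fun i => hL _) _ M hM)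
      (AmpleLib.isInvertible_tensorPow (hL _) _)

theorem tensorPows_tensor : ∀ (r : ℕ) (L : Fin r → X.Modules) (n : Fin r → ℕ) (M A : X.Modules),
    Nonempty (Curv2.tensorPows (CohB1.tensorMod M A) r L n ≅ CohB1.tensorMod (Curv2.tensorPows M r L n) A) := by
  intro r
  induction r with
  | zero => exact fun L n M A => ⟨Iso.refl _⟩
  | succ r ih =>
    intro L n M A
    obtain ⟨e⟩ := ih (fun i => L i.castSucc) (fun i => n i.castSucc) M A
    exact ⟨AmpleLib.tIso e (Iso.refl _) ≪≫ AmpleLib.assoc _ _ _ ≪≫ AmpleLib.tIso (Iso.refl _) (AmpleLib.comm _ _) ≪≫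
      (AmpleLib.assoc _ _ _).symm⟩

theorem tensorPows_add : ∀ (r : ℕ) (L : Fin r → X.Modules) (a b : Fin r → ℕ) (M : X.Modules),
    Nonempty (Curv2.tensorPows M r L (a + b) ≅
      CohB1.tensorMod (Curv2.tensorPows M r L a) (Curv2.tensorPows (Coh.structureModule X) r L b)) := by
  intro r
  induction r with
  | zero => exact fun L a b M => ⟨(AmpleLib.unitR M).symm⟩
  | succ r ih =>
    intro L a b M
    obtain ⟨e⟩ := ih (fun i => L i.castSucc) (fun i => a i.castSucc) (fun i => b i.castSucc) M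
    exact ⟨AmpleLib.tIso e (AmpleLib.powAdd _ _ _) ≪≫ AmpleLib.interchange _ _ _ _⟩

theorem tensorPows_zero : ∀ (r : ℕ) (L : Fin r → X.Modules) (M : X.Modules),
    Nonempty (Curv2.tensorPows M r L 0 ≅ M) := by
  intro r
  induction r with
  | zero => exact fun L M => ⟨Iso.refl _⟩
  | succ r ih =>
    intro L M
    obtain ⟨e⟩ := ih (fun i => L i.castSucc) M
    exact ⟨AmpleLib.tIso e (Iso.refl _) ≪≫ AmpleLib.unitR M⟩

theorem tensorPows_line (r : ℕ) (L : Fin r → X.Modules) (e : Fin r → ℕ) (M : X.Modules) : ∀ t : ℕ,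
    Nonempty (Curv2.tensorPows M r L (fun i => t * e i) ≅
      ShStab.twist X (Curv2.tensorPows (Coh.structureModule X) r L e) M t) := by
  intro t
  induction t with
  | zero =>
    obtain ⟨i⟩ := tensorPows_zero r L M
    exact ⟨eqToIso (congrArg (Curv2.tensorPows M r L) (funext fun j => Nat.zero_mul (e j))) ≪≫ i ≪≫
      (AmpleLib.unitR M).symm⟩
  | succ t ih =>
    obtain ⟨i⟩ := ih
    obtain ⟨j⟩ := tensorPows_add r L (fun i => t * e i) e M
    exact ⟨eqToIso (congrArg (Curv2.tensorPows M r L) (funext fun q => Nat.succ_mul t (e q))) ≪≫ j ≪≫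
      AmpleLib.tIso i (Iso.refl _) ≪≫ AmpleLib.assoc _ _ _⟩

theorem tensorPows_split : ∀ (r : ℕ) (L : Fin r → X.Modules) (n : Fin r → ℕ) (M : X.Modules),
    Nonempty (Curv2.tensorPows M r L n ≅
      CohB1.tensorMod M (FGA.tensorList (List.ofFn fun i => CohB1.tensorPow (L i) (n i)))) := by
  intro r
  induction r with
  | zero => exact fun L n M => ⟨(AmpleLib.unitR M).symm⟩
  | succ r ih =>
    intro L n M
    have app : ∀ (l : List X.Modules) (A : X.Modules),
        Nonempty (FGA.tensorList (l ++ [A]) ≅ CohB1.tensorMod (FGA.tensorList l) A) := fun l A => by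
      induction l with
      | nil => exact ⟨AmpleLib.unitR A ≪≫ (AmpleLib.unitL A).symm⟩
      | cons B l ihl =>
        obtain ⟨e⟩ := ihl
        exact ⟨AmpleLib.tIso (Iso.refl B) e ≪≫ (AmpleLib.assoc _ _ _).symm⟩
    obtain ⟨e⟩ := ih (fun i => L i.castSucc) (fun i => n i.castSucc) M
    obtain ⟨a⟩ := app (List.ofFn fun i : Fin r => CohB1.tensorPow (L i.castSucc) (n i.castSucc))
      (CohB1.tensorPow (L (Fin.last r)) (n (Fin.last r)))
    exact ⟨AmpleLib.tIso e (Iso.refl _) ≪≫ AmpleLib.assoc _ _ _ ≪≫ AmpleLib.tIso (Iso.refl M) (a.symm ≪≫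
      eqToIso (congrArg FGA.tensorList (by rw [List.ofFn_succ', List.concat_eq_append])))⟩

variable (k : Type u) [Field k] [X.Over (Spec (CommRingCat.of k))] [IsProper (X ↘ Spec (CommRingCat.of k))]

theorem exists_mvPoly (r : ℕ) : ∀ (L : Fin r → X.Modules), (∀ i, PicF.IsInvertible (L i)) →
    ∀ (N : ℕ) (M : X.Modules), Coh.IsCoh M → topologicalKrullDim (CohB1.support M) < (N : WithBot ℕ∞) →
      ∃ P : MvPolynomial (Fin r) ℚ, ∀ n : Fin r → ℕ,
        (Curv2.euler k X (Curv2.tensorPows M r L n) : ℚ) = MvPolynomial.eval (fun i => (n i : ℚ)) P := by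
  haveI := EulerIneqLib.isNoetherian_proper (X := X) k
  induction r with
  | zero => exact fun L _ N M _ _ => ⟨MvPolynomial.C (Curv2.euler k X M : ℚ), fun n => by rw [MvPolynomial.eval_C]; rfl⟩
  | succ r ih =>
    intro L hL N M hM hd
    refine exists_mvPoly_succ (N := N) (fun n => (Curv2.euler k X (Curv2.tensorPows M (r + 1) L n) : ℚ))
      (fun m => ?_) fun i => ?_
    · obtain ⟨h1, h2⟩ := tensorPows_props r (fun i => L i.castSucc) (fun i => hL _) m M hM
      obtain ⟨Q, hQ, hQe⟩ := exists_poly k (hL (Fin.last r)) N _ h1 (by rwa [h2])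
      refine ⟨Q, hQ, fun t => ?_⟩
      rw [← hQe t]
      show ((Curv2.euler k X (CohB1.tensorMod (Curv2.tensorPows M r _ _) (CohB1.tensorPow _ _)) : ℤ) : ℚ) = _
      simp only [Fin.snoc_castSucc, Fin.snoc_last]
      rfl
    · obtain ⟨P, hP⟩ := ih (fun j => L j.castSucc) (fun j => hL _) N (ShStab.twist X (L (Fin.last r)) M i)
        (isCoh_twist (hL _) hM i) (lt_of_eq_of_lt (congrArg (fun s : Set X => topologicalKrullDim s)
          (support_tensor (AmpleLib.isInvertible_tensorPow (hL _) _) M)) hd)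
      refine ⟨P, fun m => ?_⟩
      rw [← hP m]
      obtain ⟨e⟩ := tensorPows_tensor r (fun j => L j.castSucc) m M (CohB1.tensorPow (L (Fin.last r)) i)
      show ((Curv2.euler k X (CohB1.tensorMod (Curv2.tensorPows M r _ _) (CohB1.tensorPow _ _)) : ℤ) : ℚ) = _
      simp only [Fin.snoc_castSucc, Fin.snoc_last]
      exact congrArg (fun z : ℤ => (z : ℚ)) (CurveLib.euler_iso (K := k) e.symm)

theorem snapper (r : ℕ) (L : Fin r → X.Modules) (hL : ∀ i, PicF.IsInvertible (L i)) (M : X.Modules)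
    (hM : Coh.IsCoh M) (d : ℕ) (hd : topologicalKrullDim (CohB1.support M) ≤ d) :
    ∃ P : MvPolynomial (Fin r) ℚ, P.totalDegree ≤ d ∧ ∀ n : Fin r → ℕ,
      (Curv2.euler k X (Curv2.tensorPows M r L n) : ℚ) = MvPolynomial.eval (fun i => (n i : ℚ)) P := by
  have hlt : topologicalKrullDim (CohB1.support M) < ((d + 1 : ℕ) : WithBot ℕ∞) :=
    lt_of_le_of_lt hd (by exact_mod_cast Nat.lt_succ_self d)
  obtain ⟨P, hP⟩ := exists_mvPoly k r L hL (d + 1) M hM hlt
  refine ⟨P, totalDegree_le_of_lines P fun e => ?_, hP⟩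
  obtain ⟨Q, hQ, hQe⟩ := exists_poly k
    (tensorPows_invertible r L hL e (Coh.structureModule X) (ParaFLib.isInvertible_structureModule)) (d + 1) M hM hlt
  refine ⟨Q, hQ, fun t => ?_⟩
  obtain ⟨i⟩ := tensorPows_line r L e M t
  rw [← hQe t, ← hP fun i => t * e i]
  exact congrArg (fun z : ℤ => (z : ℚ)) (CurveLib.euler_iso (K := k) i)

theorem eulerCharLE_eq (F : X.Modules) {d : ℕ} (hd : topologicalKrullDim X ≤ d) :
    FGA.eulerCharLE k X F d = Curv2.euler k X F := by
  haveI := EulerIneqLib.isNoetherian_proper (X := X) k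
  exact (CurveLib.euler_eq_sum F (d + 1) fun p hp =>
    CurveLib.subsingleton_HH_of_dim F hd (by omega)).symm

end Groth.Agent.HilbLib
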