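import Groth.Agent.HilbLib.Poly
import Groth.Agent.DevLib.Apps
import Groth.Agent.DevLib.TFSub
import Groth.Agent.CurveLib.TensorExact
import Groth.Agent.CurveLib.TensorDeg
import Groth.Agent.CurveLib.Inv
import Groth.Agent.AmpleLib.Tensor
import Groth.Prelude.Def_ShStab
/-!
Euler characteristics of twists of a coherent module are polynomial.
-/

set_option autoImplicit false
set_option backward.isDefEq.respectTransparency false
set_option linter.style.haveILetI false

universe u

open CategoryTheory CategoryTheory.Limits AlgebraicGeometry Polynomial TopologicalSpace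
open Groth.Agent.PullbackMod Groth.Agent.DCohLib Groth.Agent.DevLib Groth.Agent.QCohLib
open scoped TensorProduct

noncomputable section

namespace Groth.Agent.HilbLib

variable (k : Type u) [Field k] {X : Scheme.{u}} [X.Over (Spec (CommRingCat.of k))]
  [IsProper (X ↘ Spec (CommRingCat.of k))] {L : X.Modules}

/-- `χ(M(m))`. -/
def chi (L M : X.Modules) (m : ℕ) : ℚ := (Curv2.euler k X (ShStab.twist X L M m) : ℚ)

theorem chi_iso {M N : X.Modules} (e : M ≅ N) (m : ℕ) : chi k L M m = chi k L N m :=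
  congrArg (fun z : ℤ => (z : ℚ)) (CurveLib.euler_iso (K := k) (AmpleLib.tIso e (Iso.refl _)))

theorem isCoh_twist [IsLocallyNoetherian X] (hL : PicF.IsInvertible L) {M : X.Modules} (hM : Coh.IsCoh M) (m : ℕ) :
    Coh.IsCoh (ShStab.twist X L M m) :=
  CurveLib.isCoh_tmod hM (CurveLib.isCoh_of_isInvertible (AmpleLib.isInvertible_tensorPow hL m))

theorem chi_shortExact (hL : PicF.IsInvertible L) {S : ShortComplex X.Modules} (hS : S.ShortExact)
    (h₁ : Coh.IsCoh S.X₁) (h₂ : Coh.IsCoh S.X₂) (h₃ : Coh.IsCoh S.X₃) (m : ℕ) :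
    chi k L S.X₂ m = chi k L S.X₁ m + chi k L S.X₃ m := by
  haveI := EulerIneqLib.isNoetherian_proper (X := X) k
  have h := CurveLib.euler_shortExact (K := k)
    (CurveLib.shortExact_tensR hS fun x => CurveLib.freeAt_one_of_isInvertible (AmpleLib.isInvertible_tensorPow hL m) x)
    (isCoh_twist hL h₁ m) (isCoh_twist hL h₂ m) (isCoh_twist hL h₃ m)
  show ((Curv2.euler k X _ : ℤ) : ℚ) = (Curv2.euler k X _ : ℤ) + (Curv2.euler k X _ : ℤ)
  exact_mod_cast h

theorem chi_coker (hL : PicF.IsInvertible L) {A B : X.Modules} (f : A ⟶ B) [Mono f]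
    (hA : Coh.IsCoh A) (hB : Coh.IsCoh B) (m : ℕ) :
    chi k L B m = chi k L A m + chi k L (cokernel f) m :=
  haveI := EulerIneqLib.isNoetherian_proper (X := X) k
  chi_shortExact k hL (cokerSeq_shortExact f) hA hB (isCoh_kernel_cokernel f hA hB).2 m

theorem chi_isZero (hL : PicF.IsInvertible L) {M : X.Modules} (hM : IsZero M) (m : ℕ) : chi k L M m = 0 := by
  haveI := EulerIneqLib.isNoetherian_proper (X := X) k
  have hc := isCoh_of_isZero hM
  have h := chi_coker k hL (𝟙 M) hc hc m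
  rw [chi_iso k ((isZero_cokernel_of_epi (𝟙 M)).iso hM)] at h
  linarith

theorem chi_succ (M : X.Modules) (m : ℕ) : chi k L (CohB1.tensorMod M L) m = chi k L M (m + 1) :=
  congrArg (fun z : ℤ => (z : ℚ)) (CurveLib.euler_iso (K := k)
    (AmpleLib.assoc M L _ ≪≫ AmpleLib.tIso (Iso.refl M) (AmpleLib.comm L _)))

/-- The stalk of a tensor product with an invertible module. -/
theorem nonempty_stalk_equiv (hL : PicF.IsInvertible L) (M : X.Modules) (x : X) :
    Nonempty ((tmod M L).presheaf.stalk x ≃ₗ[X.presheaf.stalk x] M.presheaf.stalk x) := by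
  obtain ⟨e, he⟩ := ParaFLib.exists_stalk_gen hL x
  let eL : X.presheaf.stalk x ≃ₗ[X.presheaf.stalk x] L.presheaf.stalk x :=
    LinearEquiv.ofBijective (LinearMap.toSpanSingleton (X.presheaf.stalk x) _ e) he
  exact ⟨(stalkTensor x M L).symm ≪≫ₗ (TensorProduct.congr (LinearEquiv.refl _ _) eL.symm) ≪≫ₗ
    TensorProduct.rid (X.presheaf.stalk x) (M.presheaf.stalk x)⟩

theorem support_tensor (hL : PicF.IsInvertible L) (M : X.Modules) :
    CohB1.support (tmod M L) = CohB1.support M := by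
  ext x
  obtain ⟨e⟩ := nonempty_stalk_equiv hL M x
  exact not_congr e.toEquiv.subsingleton_congr

/-- Twisted Euler characteristics are given by a polynomial of degree `< n`. -/
def PolyLT (L M : X.Modules) (n : ℕ) : Prop :=
  ∃ P : ℚ[X], P.degree < (n : WithBot ℕ) ∧ ∀ m : ℕ, chi k L M m = P.eval (m : ℚ)

theorem PolyLT.iso {M N : X.Modules} {n : ℕ} (h : PolyLT k L M n) (e : M ≅ N) : PolyLT k L N n := by
  obtain ⟨P, hP, h⟩ := h
  exact ⟨P, hP, fun m => by rw [← chi_iso k e, h]⟩

theorem degree_lt_add {P Q : ℚ[X]} {n : WithBot ℕ} (hP : P.degree < n) (hQ : Q.degree < n) : (P + Q).degree < n :=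
  (degree_add_le _ _).trans_lt (max_lt hP hQ)

theorem degree_lt_sub {P Q : ℚ[X]} {n : WithBot ℕ} (hP : P.degree < n) (hQ : Q.degree < n) : (P - Q).degree < n :=
  (degree_sub_le _ _).trans_lt (max_lt hP hQ)

theorem isClosed_closure_le {T : Set X} {ξ : X} (hT : closure {ξ} ⊆ T) {n : ℕ}
    (h : topologicalKrullDim T < ((n + 1 : ℕ) : WithBot ℕ∞)) :
    topologicalKrullDim (closure {ξ} : Set X) < ((n + 1 : ℕ) : WithBot ℕ∞) :=
  lt_of_le_of_lt (Topology.IsInducing.topologicalKrullDim_le (f := Set.inclusion hT)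
    (Topology.IsEmbedding.inclusion hT).isInducing) h

/-- **Snapper's theorem** in one variable. -/
theorem exists_poly (hL : PicF.IsInvertible L) : ∀ (n : ℕ) (M : X.Modules), Coh.IsCoh M →
    topologicalKrullDim (CohB1.support M) < (n : WithBot ℕ∞) → PolyLT k L M n := by
  haveI := EulerIneqLib.isNoetherian_proper (X := X) k
  intro n
  induction n with
  | zero =>
    intro M _ hd
    have hz : IsZero M := isZero_of_support_empty (Set.not_nonempty_iff_eq_empty.1 fun ⟨x, hx⟩ => by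
      haveI : Nonempty (CohB1.support M) := ⟨⟨x, hx⟩⟩
      haveI : Nonempty (IrreducibleCloseds (CohB1.support M)) :=
        ⟨⟨closure {⟨x, hx⟩}, isIrreducible_singleton.closure, isClosed_closure⟩⟩
      have h0 : (0 : WithBot ℕ∞) ≤ topologicalKrullDim (CohB1.support M) := Order.krullDim_nonneg
      exact not_lt.2 h0 (by simpa using hd))
    exact ⟨0, by simp, fun m => by rw [chi_isZero k hL hz, eval_zero]⟩
  | succ n ih =>
    intro M hM hd
    refine devissage (CohB1.support M) (fun N => PolyLT k L N (n + 1)) (fun A B ⟨e⟩ h => h.iso k e)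
      (fun A hA => ⟨0, by simp, fun m => by rw [chi_isZero k hL hA, eval_zero]⟩) ?_ ?_ M hM subset_rfl
    · intro S hS h₁ h₂ h₃ _ ⟨P, hP, hP'⟩ ⟨Q, hQ, hQ'⟩
      exact ⟨P + Q, degree_lt_add hP hQ, fun m => by rw [chi_shortExact k hL hS h₁ h₂ h₃, hP', hQ', eval_add]⟩
    intro ξ _ hξT Q hQ _
    have hd' := isClosed_closure_le hξT hd
    have small : ∀ N : X.Modules, Coh.IsCoh N → (∀ y ∈ CohB1.support N, ξ ⤳ y) → ξ ∉ CohB1.support N →
        PolyLT k L N n := fun N hN hs hξ => ih N hN (dim_lt_of_notMem (isClosed_support hN)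
          (fun y hy => specializes_iff_mem_closure.1 (hs y hy)) hξ hd')
    have hQL : Coh.IsCoh (tmod Q L) := CurveLib.isCoh_tmod hQ.coh (CurveLib.isCoh_of_isInvertible hL)
    obtain ⟨S, hS, h1, h2, h3, htf, hs3, hs1, hn1, ⟨e⟩, ⟨θ⟩⟩ := exists_tfQuot (ξ := ξ) hQL
      (by rw [support_tensor hL]; exact hQ.supp)
    obtain ⟨eL⟩ := nonempty_stalk_equiv hL Q ξ
    obtain ⟨m₀, hm₀, ⟨e₀⟩⟩ := isSimpleModule_iff_quot_maximal.1 hQ.simple
    have hk : ∀ a ∈ IsLocalRing.maximalIdeal (X.presheaf.stalk ξ), ∀ z : Q.presheaf.stalk ξ, a • z = 0 := by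
      intro a ha z
      obtain ⟨r, hr⟩ := Submodule.Quotient.mk_surjective m₀ (e₀ z)
      refine e₀.injective ?_
      rw [map_smul, map_zero, ← hr, ← Submodule.Quotient.mk_smul]
      refine (Submodule.Quotient.mk_eq_zero _).2 (Ideal.mul_mem_right r _ ?_)
      rwa [IsLocalRing.eq_maximalIdeal hm₀]
    obtain ⟨H, p, q, hH, hp, hq, hps, hqs⟩ := exists_common' hQ.coh h3 hQ.tf htf hk (θ.trans eL).symm
    obtain ⟨P₁, hP₁, h₁⟩ := small _ h1 hs1 hn1
    obtain ⟨Pp, hPp, hp'⟩ := small _ (isCoh_kernel_cokernel p hH hQ.coh).2 (supp_coker p hQ.supp)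
      (notMem_support_coker p hps)
    obtain ⟨Pq, hPq, hq'⟩ := small _ (isCoh_kernel_cokernel q hH h3).2 (supp_coker q hs3)
      (notMem_support_coker q hqs)
    obtain ⟨P, hP, hPe⟩ := exists_eval (f := chi k L Q) (Q := P₁ + Pq - Pp)
      (degree_lt_sub (degree_lt_add hP₁ hPq) hPp) fun m => by
        have e1 : chi k L Q (m + 1) = chi k L S.X₁ m + chi k L S.X₃ m := by
          exact ((chi_succ k Q m).symm.trans (chi_iso k e m).symm).trans (chi_shortExact k hL hS h1 h2 h3 m)
        rw [e1, chi_coker k hL p hH hQ.coh, chi_coker k hL q hH h3, h₁, hp', hq', eval_sub, eval_add]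
        ring
    exact ⟨P, hP, hPe⟩

end Groth.Agent.HilbLib
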