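import Mathlib
/-!
Dimension of closed subsets of sober spaces through chains of points.
-/

set_option autoImplicit false

open Topology TopologicalSpace

namespace Groth.Agent.HilbLib

variable {X : Type*} [TopologicalSpace X] [QuasiSober X] [T0Space X]

/-- A strict chain of specializations of length `n` in `A`. -/
def HasChain (n : ℕ) (A : Set X) : Prop :=
  ∃ p : Fin (n + 1) → X, (∀ i, p i ∈ A) ∧ ∀ i j, i < j → p j ⤳ p i ∧ p i ≠ p j

theorem not_dim_lt_iff {A : Set X} (hA : IsClosed A) (n : ℕ) :
    ¬ topologicalKrullDim A < (n : WithBot ℕ∞) ↔ HasChain n A := by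
  rw [not_lt]
  constructor
  · intro h
    obtain ⟨s, hs⟩ := Order.le_krullDim_iff.1 h
    let T : Fin (s.length + 1) → Set X := fun i => Subtype.val '' (s i : Set A)
    have hT : ∀ i, IsIrreducible (T i) ∧ IsClosed (T i) := fun i =>
      ⟨(s i).isIrreducible.image _ continuous_subtype_val.continuousOn,
        hA.isClosedEmbedding_subtypeVal.isClosedMap _ (s i).isClosed⟩
    have hg : ∀ i, ∃ x, IsGenericPoint x (T i) := fun i => QuasiSober.sober (hT i).1 (hT i).2
    choose x hx using hg
    subst hs
    refine ⟨x, fun i => ?_, fun i j hij => ?_⟩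
    · obtain ⟨w, -, hw⟩ := (hx i).mem
      exact hw ▸ w.2
    · have hlt : (s i : Set A) ⊂ (s j : Set A) := s.strictMono hij
      refine ⟨(hx j).specializes (Set.image_mono hlt.subset (hx i).mem), fun e => hlt.ne ?_⟩
      have : T i = T j := by rw [← (hx i).def, ← (hx j).def, e]
      exact Set.image_injective.2 Subtype.val_injective this
  · rintro ⟨p, hp, hp'⟩
    let c : Fin (n + 1) → IrreducibleCloseds A := fun i =>
      ⟨closure {⟨p i, hp i⟩}, isIrreducible_singleton.closure, isClosed_closure⟩
    have hmono : StrictMono c := fun i j hij => by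
      have h1 : (⟨p j, hp j⟩ : A) ⤳ ⟨p i, hp i⟩ := (subtype_specializes_iff _ _).2 (hp' i j hij).1
      refine lt_of_le_of_ne (closure_minimal (Set.singleton_subset_iff.2 h1.mem_closure) isClosed_closure) fun e => ?_
      have h2 : (⟨p j, hp j⟩ : A) ∈ (c i : Set A) := by rw [e]; exact subset_closure rfl
      have h3 := ((subtype_specializes_iff _ _).1 (specializes_iff_mem_closure.2 h2)).antisymm (hp' i j hij).1
      exact (hp' i j hij).2 h3.eq
    exact Order.LTSeries.length_le_krullDim (LTSeries.mk n c hmono)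

/-- Some point of a closed set spans a closed set of the same dimension. -/
theorem HasChain.exists_point {n : ℕ} {A : Set X} (h : HasChain n A) :
    ∃ ξ ∈ A, HasChain n (closure {ξ}) := by
  obtain ⟨p, hp, hp'⟩ := h
  refine ⟨p (Fin.last n), hp _, p, fun i => ?_, hp'⟩
  rcases (Fin.le_last i).eq_or_lt with rfl | hi
  · exact subset_closure rfl
  · exact (hp' _ _ hi).1.mem_closure

/-- A point one step below the top. -/
theorem HasChain.exists_below {n : ℕ} {ξ : X} (h : HasChain (n + 1) (closure {ξ})) :
    ∃ x, ξ ⤳ x ∧ x ≠ ξ ∧ HasChain n (closure {x}) := by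
  obtain ⟨p, hp, hp'⟩ := h
  have hlt : (Fin.last n).castSucc < Fin.last (n + 1) := Fin.castSucc_lt_last _
  refine ⟨p (Fin.last n).castSucc, specializes_iff_mem_closure.2 (hp _), fun e => ?_,
    fun i => p i.castSucc, fun i => ?_, fun i j hij => hp' _ _ (Fin.castSucc_lt_castSucc_iff.2 hij)⟩
  · have h1 := (hp' _ _ hlt).1
    rw [e] at h1
    exact (hp' _ _ hlt).2 (e.trans ((specializes_iff_mem_closure.2 (hp _)).antisymm h1).eq)
  · rcases (Fin.le_last i).eq_or_lt with rfl | hi
    · exact subset_closure rfl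
    · exact (hp' _ _ (Fin.castSucc_lt_castSucc_iff.2 hi)).1.mem_closure

theorem HasChain.mono {n : ℕ} {A B : Set X} (h : HasChain n A) (hAB : A ⊆ B) : HasChain n B := by
  obtain ⟨p, hp, hp'⟩ := h
  exact ⟨p, fun i => hAB (hp i), hp'⟩

end Groth.Agent.HilbLib
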