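import Groth.Agent.HilbLib.Basic
import Groth.Agent.HilbLib.DimPts
import Groth.Agent.AmpleLib.Basis
import Groth.Agent.AmpleEmb.Serre
import Groth.Agent.CurveLib.SmulPow
import Groth.Agent.CurveLib.Deg
import Groth.Agent.CurveLib.Finite
/-!
The leading coefficient of the Hilbert polynomial with respect to an ample module.
-/

set_option autoImplicit false
set_option backward.isDefEq.respectTransparency false
set_option linter.style.haveILetI false

universe u

open CategoryTheory CategoryTheory.Limits AlgebraicGeometry Polynomial TopologicalSpace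
open Groth.Agent.PullbackMod Groth.Agent.DCohLib Groth.Agent.DevLib Groth.Agent.QCohLib Groth.Agent.ParaFLib
open scoped TensorProduct

noncomputable section

namespace Groth.Agent.HilbLib

theorem poly_eq_of_nat {P Q : ℚ[X]} (h : ∀ m : ℕ, P.eval (m : ℚ) = Q.eval (m : ℚ)) : P = Q :=
  Polynomial.eq_of_infinite_eval_eq P Q ((Set.infinite_range_of_injective Nat.cast_injective).mono
    (by rintro _ ⟨m, rfl⟩; exact h m))

theorem stalkLin_bijective_of_iso {Y : Scheme.{u}} {A B : Y.Modules} (e : A ≅ B) (y : Y) :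
    Function.Bijective (stalkLin e.hom y) := by
  refine Function.bijective_iff_has_inverse.2 ⟨stalkLin e.inv y, fun z => ?_, fun z => ?_⟩
  · rw [← LinearMap.comp_apply, ← stalkLin_comp, e.hom_inv_id, stalkLin_id]; rfl
  · rw [← LinearMap.comp_apply, ← stalkLin_comp, e.inv_hom_id, stalkLin_id]; rfl

theorem support_eq_empty_of_isZero {Y : Scheme.{u}} {A : Y.Modules} (h : IsZero A) : CohB1.support A = ∅ := by
  refine Set.eq_empty_iff_forall_notMem.2 fun y hy => hy (subsingleton_of_forall_eq 0 fun z => ?_)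
  have e := LinearMap.congr_fun (congrArg (fun φ => stalkLin φ y) ((IsZero.iff_id_eq_zero A).1 h)) z
  rwa [stalkLin_id, DevLib.stalkLin_zero] at e

theorem coeff_comp_sub {n : ℕ} {P : ℚ[X]} (hP : P.degree < ((n + 2 : ℕ) : WithBot ℕ)) (J : ℚ) :
    (P.comp (Polynomial.X + C J) - P).coeff n = ((n : ℚ) + 1) * P.coeff (n + 1) * J := by
  have hdeg : (hasseDeriv n P).natDegree < 2 := by
    have h1 : P.natDegree < n + 2 := by
      rcases eq_or_ne P 0 with rfl | hP0
      · simp
      · rw [degree_eq_natDegree hP0] at hP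
        exact_mod_cast hP
    have := natDegree_hasseDeriv_le P n
    omega
  rw [coeff_sub, ← taylor_apply, taylor_coeff, eval_eq_sum_range' hdeg, Finset.sum_range_succ, Finset.sum_range_one,
    hasseDeriv_coeff, hasseDeriv_coeff, zero_add, Nat.choose_self, add_comm 1 n, Nat.choose_succ_self_right]
  push_cast
  ring

variable (k : Type u) [Field k] {X : Scheme.{u}} [X.Over (Spec (CommRingCat.of k))]
  [IsProper (X ↘ Spec (CommRingCat.of k))] {L : X.Modules}

theorem isHilbPoly_iff {M : X.Modules} {P : ℚ[X]} :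
    ShStab.IsHilbPoly k X L M P ↔ ∀ m : ℕ, chi k L M m = P.eval (m : ℚ) := Iff.rfl

theorem coeff_nonneg (hamp : CohB1.IsAmple L) {M : X.Modules} (hM : Coh.IsCoh M) {n : ℕ} {P : ℚ[X]}
    (hP : P.degree < ((n + 1 : ℕ) : WithBot ℕ)) (hPe : ∀ m : ℕ, chi k L M m = P.eval (m : ℚ)) :
    0 ≤ P.coeff n := by
  obtain ⟨n₀, hn₀⟩ := AmpleEmb.serre_vanishing (X ↘ Spec (CommRingCat.of k)) hamp hM
  have hev : ∀ m, n₀ ≤ m → (0 : ℚ) ≤ P.eval (m : ℚ) := fun m hm => by
    rw [← hPe]
    have h := CurveLib.euler_eq_sum (K := k) (ShStab.twist X L M m) 1 fun p hp => hn₀ m hm p hp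
    simp only [Finset.range_one, Finset.sum_singleton, pow_zero, one_mul] at h
    show (0 : ℚ) ≤ ((Curv2.euler k X _ : ℤ) : ℚ)
    rw [h]
    exact_mod_cast Nat.zero_le _
  by_contra hneg
  rw [not_le] at hneg
  have hnat : P.natDegree = n := le_antisymm (by
      rcases eq_or_ne P 0 with rfl | hP0
      · simp
      · rw [degree_eq_natDegree hP0] at hP
        have : P.natDegree < n + 1 := by exact_mod_cast hP
        omega) (le_natDegree_of_ne_zero hneg.ne)
  rcases Nat.eq_zero_or_pos n with rfl | hn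
  · have h := hev n₀ le_rfl
    rw [eq_C_of_natDegree_eq_zero hnat, eval_C] at h
    linarith
  · have hlc : P.leadingCoeff ≤ 0 := by rw [leadingCoeff, hnat]; exact hneg.le
    have h := ((tendsto_atBot_of_leadingCoeff_nonpos P (natDegree_pos_iff_degree_pos.1 (by rwa [hnat])) hlc).comp
      tendsto_natCast_atTop_atTop).eventually_lt_atBot 0
    obtain ⟨m, hm, hm'⟩ := ((Filter.eventually_ge_atTop n₀).and h).exists
    exact absurd (hev m hm) (not_le.2 hm')

theorem coeff_pos (hamp : CohB1.IsAmple L) : ∀ (n : ℕ) (M : X.Modules), Coh.IsCoh M →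
    topologicalKrullDim (CohB1.support M) < ((n + 1 : ℕ) : WithBot ℕ∞) →
    ∀ P : ℚ[X], P.degree < ((n + 1 : ℕ) : WithBot ℕ) → (∀ m : ℕ, chi k L M m = P.eval (m : ℚ)) →
    HasChain n (CohB1.support M) → 0 < P.coeff n := by
  haveI := EulerIneqLib.isNoetherian_proper (X := X) k
  have main : ∀ n : ℕ, (∀ (ξ : X) (Q : X.Modules), IsPiece ξ Q →
      topologicalKrullDim (closure {ξ} : Set X) < ((n + 1 : ℕ) : WithBot ℕ∞) →
      HasChain n (closure {ξ}) → ∀ P : ℚ[X], P.degree < ((n + 1 : ℕ) : WithBot ℕ) →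
      (∀ m : ℕ, chi k L Q m = P.eval (m : ℚ)) → 0 < P.coeff n) →
      ∀ (M : X.Modules), Coh.IsCoh M → topologicalKrullDim (CohB1.support M) < ((n + 1 : ℕ) : WithBot ℕ∞) →
      ∀ P : ℚ[X], P.degree < ((n + 1 : ℕ) : WithBot ℕ) → (∀ m : ℕ, chi k L M m = P.eval (m : ℚ)) →
      HasChain n (CohB1.support M) → 0 < P.coeff n := by
    intro n key M hM hd
    have sub : ∀ N : X.Modules, CohB1.support N ⊆ CohB1.support M →
        topologicalKrullDim (CohB1.support N) < ((n + 1 : ℕ) : WithBot ℕ∞) := fun N hN =>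
      lt_of_le_of_lt (Topology.IsEmbedding.inclusion hN).isInducing.topologicalKrullDim_le hd
    suffices H : ∀ P : ℚ[X], P.degree < ((n + 1 : ℕ) : WithBot ℕ) →
        (∀ m : ℕ, chi k L M m = P.eval (m : ℚ)) →
        ∀ ξ ∈ CohB1.support M, HasChain n (closure {ξ}) → 0 < P.coeff n by
      intro P hP hPe hch
      obtain ⟨ξ, hξ, h⟩ := hch.exists_point
      exact H P hP hPe ξ hξ h
    refine devissage (CohB1.support M) (fun N => ∀ P : ℚ[X], P.degree < ((n + 1 : ℕ) : WithBot ℕ) →
        (∀ m : ℕ, chi k L N m = P.eval (m : ℚ)) →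
        ∀ ξ ∈ CohB1.support N, HasChain n (closure {ξ}) → 0 < P.coeff n) ?_ ?_ ?_ ?_ M hM subset_rfl
    · rintro A B ⟨e⟩ h P hP hPe ξ hξ
      refine h P hP (fun m => (chi_iso k e m).trans (hPe m)) ξ ?_
      intro hs
      exact hξ ((stalkLin_bijective_of_iso e ξ).surjective.subsingleton)
    · intro A hA P _ _ ξ hξ
      exact absurd hξ (by rw [support_eq_empty_of_isZero hA]; exact Set.notMem_empty ξ)
    · intro S hS h₁ h₂ h₃ hT i₁ i₃ P hP hPe ξ hξ hch
      obtain ⟨P₁, hP₁, he₁⟩ := exists_poly k hamp.1 (n + 1) S.X₁ h₁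
        (sub _ ((Set.subset_union_left.trans (support_X₂ hS).superset).trans hT))
      obtain ⟨P₃, hP₃, he₃⟩ := exists_poly k hamp.1 (n + 1) S.X₃ h₃
        (sub _ ((Set.subset_union_right.trans (support_X₂ hS).superset).trans hT))
      have e : P = P₁ + P₃ := poly_eq_of_nat fun m => by
        rw [← hPe, chi_shortExact k hamp.1 hS h₁ h₂ h₃, he₁, he₃, eval_add]
      have n₁ := coeff_nonneg k hamp h₁ hP₁ he₁
      have n₃ := coeff_nonneg k hamp h₃ hP₃ he₃
      rw [support_X₂ hS] at hξ
      rw [e, coeff_add]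
      rcases hξ with h | h
      · linarith [i₁ P₁ hP₁ he₁ ξ h hch]
      · linarith [i₃ P₃ hP₃ he₃ ξ h hch]
    · intro ξ _ hξT Q hQ _ P hP hPe y hy hch
      refine key ξ Q hQ ?_ (hch.mono (closure_minimal (Set.singleton_subset_iff.2
        (specializes_iff_mem_closure.1 (hQ.supp y hy))) isClosed_closure)) P hP hPe
      exact isClosed_closure_le hξT hd
  intro n
  induction n with
  | zero =>
    refine main 0 fun ξ Q hQ hd _ P hP hPe => ?_
    have hsub : CohB1.support Q ⊆ closure {ξ} := fun y hy => specializes_iff_mem_closure.1 (hQ.supp y hy)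
    have hd0 : topologicalKrullDim (closure {ξ} : Set X) ≤ 0 := by
      revert hd
      generalize topologicalKrullDim (closure {ξ} : Set X) = a
      intro ha
      cases a with
      | bot => exact bot_le
      | coe a => exact_mod_cast le_of_eq (Order.lt_one_iff.1 (show a < 1 by exact_mod_cast ha))
    have hc := hPe 0
    have hP0 : P = C (P.coeff 0) := eq_C_of_natDegree_le_zero (natDegree_le_iff_coeff_eq_zero.2 fun m hm =>
      (degree_lt_iff_coeff_zero P (0 + 1)).1 hP m (by omega))
    rw [hP0, eval_C] at hc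
    rw [← hc]
    let Q' := ShStab.twist X L Q 0
    have hQ' : Coh.IsCoh Q' := isCoh_twist hamp.1 hQ.coh 0
    have hs' : CohB1.support Q' = CohB1.support Q := support_tensor (AmpleLib.isInvertible_tensorPow hamp.1 0) Q
    show (0 : ℚ) < ((Curv2.euler k X Q' : ℤ) : ℚ)
    rw [CurveLib.euler_of_dim_le_zero (k := k) isClosed_closure (hs'.subset.trans hsub) hd0]
    haveI := EulerIneqLib.finite_HH (k := k) hQ' 0
    haveI : Nontrivial (Coh.HH X Q' 0) := by
      rw [← not_subsingleton_iff_nontrivial]
      intro hsub0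
      have h1 := CurveLib.subsingleton_stalk_of_H0 isClosed_closure hd0 Q' (hs'.subset.trans hsub) ξ
      haveI := hQ.simple
      haveI := IsSimpleModule.nontrivial (X.presheaf.stalk ξ) (Q.presheaf.stalk ξ)
      have h2 : ξ ∈ CohB1.support Q' := hs' ▸ not_subsingleton (Q.presheaf.stalk ξ)
      exact h2 h1
    exact_mod_cast Module.finrank_pos
  | succ n ih =>
    refine main (n + 1) fun ξ Q hQ hd hch P hP hPe => ?_
    obtain ⟨x, hξx, hne, hchx⟩ := hch.exists_below
    let U : X.Opens := ⟨(closure {x})ᶜ, isClosed_closure.isOpen_compl⟩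
    obtain ⟨j, t, hξt, htU, -⟩ := AmpleLib.exists_small_genLocus hamp (U := U) (x := ξ)
      (show ξ ∉ closure {x} from fun h => hne ((specializes_iff_mem_closure.2 h).antisymm hξx).eq)
    have hxt : x ∉ CohB1.genLocus _ t := fun h => htU h (subset_closure rfl)
    let N := CohB1.tensorPow L (j + 1)
    have hN : PicF.IsInvertible N := AmpleLib.isInvertible_tensorPow hamp.1 (j + 1)
    let μ : Q ⟶ tmod Q N := (AmpleLib.unitR Q).inv ≫ CurveLib.mulS Q t
    have hu : ∀ y : X, Function.Bijective (stalkLin (AmpleLib.unitR Q).inv y) := fun y =>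
      stalkLin_bijective_of_iso (AmpleLib.unitR Q).symm y
    have hone : ∀ y, stalkLin t y (oneG y) = N.presheaf.germ ⊤ y trivial (AmpleLib.sec t) := fun y =>
      stalkLin_germ t (U := ⊤) y trivial _
    have hξb : Function.Bijective (stalkLin μ ξ) := by
      rw [stalkLin_comp, LinearMap.coe_comp]
      refine Function.Bijective.comp ?_ (hu ξ)
      have hb := (AmpleLib.mem_genLocus_iff hN).1 hξt
      have htb : Function.Bijective (stalkLin t ξ) := by
        refine ⟨(injective_iff_map_eq_zero _).2 fun z hz => ?_, fun z => ?_⟩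
        · obtain ⟨r, rfl⟩ := (bijective_oneG ξ).2 z
          rw [map_smul, hone] at hz
          have hr : r = 0 := hb.1 (hz.trans (zero_smul _ _).symm)
          rw [hr]; exact zero_smul _ _
        · obtain ⟨r, rfl⟩ := hb.2 z
          exact ⟨r • oneG ξ, by rw [map_smul, hone]⟩
      have e : ∀ z, stalkLin (CurveLib.mulS Q t) ξ (stalkTensor ξ Q (Coh.structureModule X) z) =
          stalkTensor ξ Q N ((stalkLin t ξ).lTensor _ z) := fun z => stalkTensor_natural_right ξ t z
      have hb' : Function.Bijective ((stalkLin (CurveLib.mulS Q t) ξ) ∘ (stalkTensor ξ Q (Coh.structureModule X))) := by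
        have e' : (stalkLin (CurveLib.mulS Q t) ξ) ∘ (stalkTensor ξ Q (Coh.structureModule X)) =
            (stalkTensor ξ Q N) ∘ ((LinearEquiv.ofBijective _ htb).lTensor (Q.presheaf.stalk ξ)) := funext e
        rw [e']
        exact (stalkTensor ξ Q N).bijective.comp (LinearEquiv.bijective _)
      exact (Function.Bijective.of_comp_iff _ (stalkTensor ξ Q (Coh.structureModule X)).bijective).1 hb'
    haveI : Mono μ := by
      refine (mono_iff_stalk _).2 fun y => (injective_iff_map_eq_zero _).2 fun z hz => ?_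
      obtain ⟨O, hy, s, rfl⟩ := TopCat.Presheaf.exists_germ_eq Q.presheaf z
      rw [stalkLin_germ] at hz
      obtain ⟨W, hyW, i₁, i₂, hres⟩ := TopCat.Presheaf.germ_eq (tmod Q N).presheaf y hy hy _ 0
        (hz.trans (map_zero _).symm)
      rw [map_zero] at hres
      rw [← TopCat.Presheaf.germ_res_apply Q.presheaf i₁ y hyW s]
      refine (congrArg _ (hQ.tf W _ fun hξW => hξb.1 ?_)).trans (map_zero _)
      rw [stalkLin_germ, map_zero]
      exact (congrArg ((tmod Q N).presheaf.germ W ξ hξW) ((app_res μ i₁.le s).trans hres)).trans (map_zero _)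
    have hQN : Coh.IsCoh (tmod Q N) := CurveLib.isCoh_tmod hQ.coh (CurveLib.isCoh_of_isInvertible hN)
    have hC := (isCoh_kernel_cokernel μ hQ.coh hQN).2
    have hsuppQ : ∀ y ∈ CohB1.support (tmod Q N), ξ ⤳ y := by
      rw [support_tensor hN]; exact hQ.supp
    have hdC : topologicalKrullDim (CohB1.support (cokernel μ)) < ((n + 1 : ℕ) : WithBot ℕ∞) :=
      dim_lt_of_notMem (isClosed_support hC)
        (fun y hy => specializes_iff_mem_closure.1 (supp_coker μ hsuppQ y hy)) (notMem_support_coker μ hξb.2) hd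
    have hxQ : x ∈ CohB1.support Q := by
      haveI := hQ.simple
      haveI := IsSimpleModule.nontrivial (X.presheaf.stalk ξ) (Q.presheaf.stalk ξ)
      exact hξx.mem_closed (isClosed_support hQ.coh) (not_subsingleton _)
    have hxC : x ∈ CohB1.support (cokernel μ) := by
      intro hss
      have hsurj : Function.Surjective (stalkLin μ x) := fun z => (coker_exact μ x z).1 (hss.elim _ _)
      obtain ⟨e, he⟩ := exists_stalk_gen hN x
      obtain ⟨a, ha⟩ := he.2 (N.presheaf.germ ⊤ x trivial (AmpleLib.sec t))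
      have hau : ¬ IsUnit a := fun hu' => hxt ((AmpleLib.mem_genLocus_iff hN).2 (by
        have := (AmpleLib.bijective_smul_iff he a).2 hu'
        simpa only [ha] using this))
      have hle : (⊤ : Submodule (X.presheaf.stalk x) ((tmod Q N).presheaf.stalk x)) ≤
          IsLocalRing.maximalIdeal (X.presheaf.stalk x) • ⊤ := by
        intro z _
        obtain ⟨w, rfl⟩ := hsurj z
        rw [stalkLin_comp, LinearMap.comp_apply]
        obtain ⟨v, hv⟩ := (stalkTensor x Q (Coh.structureModule X)).surjective (stalkLin (AmpleLib.unitR Q).inv x w)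
        rw [← hv]
        erw [stalkTensor_natural_right]
        clear hv
        induction v using TensorProduct.induction_on with
        | zero => simp
        | add p q hp hq => rw [map_add, map_add]; exact add_mem hp hq
        | tmul q r =>
          obtain ⟨c, rfl⟩ := (bijective_oneG x).2 r
          rw [LinearMap.lTensor_tmul, map_smul, hone, ← ha, smul_smul, TensorProduct.tmul_smul, map_smul]
          exact Submodule.smul_mem_smul (Ideal.mul_mem_left _ c hau) trivial
      haveI := hQN.1
      haveI := finite_stalk_of_isFT hQN.2 x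
      have h0 := Submodule.eq_bot_of_le_smul_of_le_jacobson_bot _ _ Module.Finite.fg_top hle
        (IsLocalRing.maximalIdeal_le_jacobson _)
      have : x ∈ CohB1.support (tmod Q N) := by rw [support_tensor hN]; exact hxQ
      exact this (subsingleton_of_forall_eq 0 fun z => (Submodule.mem_bot _).1 (h0.le trivial))
    obtain ⟨R, hR, hRe⟩ := exists_poly k hamp.1 (n + 1) _ hC hdC
    have hchC : HasChain n (CohB1.support (cokernel μ)) :=
      hchx.mono (closure_minimal (Set.singleton_subset_iff.2 hxC) (isClosed_support hC))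
    have hpos := ih _ hC hdC R hR hRe hchC
    have hR' : R = P.comp (Polynomial.X + C ((j + 1 : ℕ) : ℚ)) - P := poly_eq_of_nat fun m => by
      have e1 : chi k L (tmod Q N) m = chi k L Q (m + (j + 1)) := by
        rw [add_comm m (j + 1)]
        exact congrArg (fun z : ℤ => (z : ℚ)) (CurveLib.euler_iso (K := k)
          (AmpleLib.assoc Q N _ ≪≫ AmpleLib.tIso (Iso.refl Q) (AmpleLib.powAdd L (j + 1) m).symm))
      have e2 := chi_coker k hamp.1 μ hQ.coh hQN m
      rw [e1, hPe, hPe, hRe] at e2
      rw [eval_sub, eval_comp, eval_add, eval_X, eval_C]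
      push_cast at e2 ⊢
      linarith
    rw [hR', coeff_comp_sub hP] at hpos
    have hJ : (0 : ℚ) < ((j + 1 : ℕ) : ℚ) := by exact_mod_cast Nat.succ_pos j
    rcases le_or_gt (P.coeff (n + 1)) 0 with h | h
    · exact absurd hpos (not_lt.2 (mul_nonpos_of_nonpos_of_nonneg
        (mul_nonpos_of_nonneg_of_nonpos (by positivity) h) hJ.le))
    · exact h

end Groth.Agent.HilbLib
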