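import Mathlib
/-!
Polynomials with a given difference, and dimensions of proper closed subsets.
-/

set_option autoImplicit false

open Polynomial Topology TopologicalSpace

namespace Groth.Agent.HilbLib

theorem exists_diff : ∀ (n : ℕ) (Q : ℚ[X]), Q.degree < (n : WithBot ℕ) →
    ∃ P : ℚ[X], P.degree < ((n + 1 : ℕ) : WithBot ℕ) ∧ P.comp (X + 1) - P = Q := by
  intro n
  induction n with
  | zero =>
    intro Q hQ
    refine ⟨0, by simp, ?_⟩
    have : Q.degree = ⊥ := by
      cases h : Q.degree with
      | bot => rfl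
      | coe a => rw [h] at hQ; exact absurd (WithBot.coe_lt_coe.1 hQ) (Nat.not_lt_zero a)
    rw [Polynomial.degree_eq_bot.1 this]
    simp
  | succ n ih =>
    intro Q hQ
    set c : ℚ := Q.coeff n / ((n : ℚ) + 1) with hc
    let T : ℚ[X] := (X + 1) ^ (n + 1) - X ^ (n + 1)
    have hT : (Q - C c * T).degree < (n : WithBot ℕ) := by
      rw [degree_lt_iff_coeff_zero]
      intro m hm
      rw [coeff_sub, coeff_C_mul, coeff_sub, coeff_X_add_one_pow, coeff_X_pow]
      rcases hm.eq_or_lt with rfl | hm'
      · rw [Nat.choose_succ_self_right, if_neg (by omega), hc]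
        field_simp
        push_cast
        ring
      · have h0 : Q.coeff m = 0 := (degree_lt_iff_coeff_zero Q (n + 1)).1 hQ m hm'
        rcases (Nat.succ_le_of_lt hm').eq_or_lt with rfl | h
        · simp [h0]
        · rw [h0, Nat.choose_eq_zero_of_lt h, if_neg (by omega)]; simp
    obtain ⟨P, hP, hPQ⟩ := ih _ hT
    refine ⟨C c * X ^ (n + 1) + P, ?_, ?_⟩
    · refine (degree_add_le _ _).trans_lt (max_lt ((degree_C_mul_X_pow_le _ _).trans_lt ?_) (hP.trans ?_))
      · exact_mod_cast Nat.lt_succ_self _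
      · exact_mod_cast Nat.lt_succ_self _
    · rw [add_comp, mul_comp, C_comp, pow_comp, X_comp]
      calc C c * (X + 1) ^ (n + 1) + P.comp (X + 1) - (C c * X ^ (n + 1) + P)
          = C c * T + (P.comp (X + 1) - P) := by ring
        _ = Q := by rw [hPQ]; ring

theorem exists_eval {n : ℕ} {f : ℕ → ℚ} {Q : ℚ[X]} (hQ : Q.degree < (n : WithBot ℕ))
    (h : ∀ m : ℕ, f (m + 1) - f m = Q.eval (m : ℚ)) :
    ∃ P : ℚ[X], P.degree < ((n + 1 : ℕ) : WithBot ℕ) ∧ ∀ m : ℕ, f m = P.eval (m : ℚ) := by
  obtain ⟨P, hP, hPQ⟩ := exists_diff n Q hQ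
  refine ⟨P + C (f 0 - P.eval 0), (degree_add_le _ _).trans_lt (max_lt hP (degree_C_le.trans_lt ?_)), fun m => ?_⟩
  · exact_mod_cast Nat.succ_pos _
  induction m with
  | zero => simp
  | succ m ih =>
    have e := congrArg (Polynomial.eval (m : ℚ)) hPQ
    simp only [eval_sub, eval_comp, eval_add, eval_X, eval_one] at e
    have e' := h m
    simp only [eval_add, eval_C] at ih ⊢
    push_cast
    linarith

/-- A closed subset missing the generic point of an irreducible closed set has smaller dimension. -/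
theorem dim_lt_of_notMem {X : Type*} [TopologicalSpace X] {C : Set X} {ξ : X} (hC : IsClosed C)
    (hsub : C ⊆ closure {ξ}) (hξ : ξ ∉ C) {n : ℕ}
    (h : topologicalKrullDim (closure {ξ} : Set X) < ((n + 1 : ℕ) : WithBot ℕ∞)) :
    topologicalKrullDim C < (n : WithBot ℕ∞) := by
  set Z : Set X := closure {ξ}
  have hZ : IsIrreducible (Set.univ : Set Z) := by
    have hZ' : IsIrreducible Z := isIrreducible_singleton.closure
    haveI : IrreducibleSpace Z := Subtype.irreducibleSpace hZ'
    exact IrreducibleSpace.isIrreducible_univ Z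
  let ι : C → Z := fun c => ⟨c.1, hsub c.2⟩
  have hι : IsClosedEmbedding ι := IsClosedEmbedding.of_comp_iff
    (isClosed_closure.isClosedEmbedding_subtypeVal (s := closure {ξ})) |>.1 hC.isClosedEmbedding_subtypeVal
  let top : IrreducibleCloseds Z := ⟨Set.univ, hZ, isClosed_univ⟩
  have key : ∀ s : LTSeries (IrreducibleCloseds C), s.length + 1 < n + 1 := fun s => by
    let s' : LTSeries (IrreducibleCloseds Z) := s.map (IrreducibleCloseds.map ι hι.continuous)
      (IrreducibleCloseds.map_strictMono_of_isInducing hι.isInducing)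
    have hlast : RelSeries.last s' < top := by
      refine lt_of_le_of_ne (fun _ _ => trivial) fun e => hξ ?_
      have : (⟨ξ, subset_closure rfl⟩ : Z) ∈ ((RelSeries.last s' : IrreducibleCloseds Z) : Set Z) := by rw [e]; trivial
      rw [LTSeries.last_map] at this
      have h2 : (⟨ξ, subset_closure rfl⟩ : Z) ∈ closure (ι '' ((RelSeries.last s : IrreducibleCloseds C) : Set C)) := this
      rw [hι.isClosedMap _ (RelSeries.last s : IrreducibleCloseds C).isClosed |>.closure_eq] at h2
      obtain ⟨w, -, hw⟩ := h2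
      rw [← show (w : X) = ξ from congrArg Subtype.val hw]
      exact w.2
    have h1 : (((RelSeries.snoc s' top hlast).length : ℕ) : WithBot ℕ∞) < ((n + 1 : ℕ) : WithBot ℕ∞) :=
      lt_of_le_of_lt (Order.LTSeries.length_le_krullDim _) h
    exact_mod_cast h1
  rcases isEmpty_or_nonempty (IrreducibleCloseds C) with hE | ⟨⟨c⟩⟩
  · rw [topologicalKrullDim, Order.krullDim_eq_bot]
    exact WithBot.bot_lt_coe _
  · have hn : 1 ≤ n := by have := key (RelSeries.singleton _ c); omega
    refine lt_of_le_of_lt (iSup_le fun s => ?_) (show ((n - 1 : ℕ) : WithBot ℕ∞) < (n : WithBot ℕ∞) by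
      exact_mod_cast (by omega : n - 1 < n))
    have := key s
    exact_mod_cast (by omega : s.length ≤ n - 1)

end Groth.Agent.HilbLib
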